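import Mathlib
import Cfsg.Agent.H468.K6.FiSeven
import Cfsg.Agent.H266.M13.Syl

/-!
# S4933, `Fi24'`, `p = 7`: the number of 7A-elements of a Sylow subgroup (helper702, for helper713)
-/

set_option autoImplicit false
set_option maxRecDepth 100000

open Cfsg

namespace Cfsg.Agent.H702.E4.Fi

open Subgroup
open Cfsg.Agent.H468.K6.Fi
open Cfsg.Agent.H842 Cfsg.Agent.H842.Seven Cfsg.Agent.H842.SevenSyl
open Cfsg.Agent.Fischer.Fi24RepDef Cfsg.Agent.Fischer.Fi24Rep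
open Cfsg.Spor (Fi24 Fi24')

section heis

variable {G : Type*} [Group G] {p : ℕ} {y c u : G}

theorem exists_inv_mod (hp : p.Prime) {a : ℕ} (ha : a % p ≠ 0) : ∃ m : ℕ, (a * m) % p = 1 := by
  have := Fact.mk hp
  have h1 : (a : ZMod p) ≠ 0 := by
    intro h2
    rw [ZMod.natCast_eq_zero_iff] at h2
    exact ha (Nat.mod_eq_zero_of_dvd h2)
  refine ⟨((a : ZMod p)⁻¹).val, ?_⟩
  have h2 : ((a * ((a : ZMod p)⁻¹).val : ℕ) : ZMod p) = ((1 : ℕ) : ZMod p) := by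
    push_cast
    rw [ZMod.natCast_zmod_val, mul_inv_cancel₀ h1]
  rw [ZMod.natCast_eq_natCast_iff'] at h2
  rw [h2, Nat.mod_eq_of_lt hp.one_lt]

theorem conj_y (h : Heis.Dat p y c u) {k i j : ℕ} (hk : k % p = 0) (hi : i % p ≠ 0) : ∃ (g : G) (m : ℕ),
    (i * m) % p = 1 ∧ g * (u ^ k * y ^ i * c ^ j) ^ m * g⁻¹ = y := by
  have hk1 : u ^ k = 1 := by rw [← Heis.Dat.pow_mod h.up, hk, pow_zero]
  obtain ⟨m, hm⟩ := exists_inv_mod h.hp hi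
  obtain ⟨j', hj⟩ := h.pow_form k i j m
  have h1 : (u ^ k * y ^ i * c ^ j) ^ m = y * c ^ j' := by
    have e1 : u ^ (k * m) = 1 := by rw [pow_mul, hk1, one_pow]
    rw [hj, e1, one_mul, ← Heis.Dat.pow_mod h.yp (i * m), hm, pow_one]
  refine ⟨u ^ ((p - 1) * j'), m, hm, ?_⟩
  have hc : Commute (c ^ j') (u ^ ((p - 1) * j'))⁻¹ := (h.cui _ _).inv_right
  have e2 : c ^ ((p - 1) * j') * c ^ j' = 1 := by
    rw [← pow_add]
    obtain ⟨q, hq⟩ : ∃ q, p = q + 1 := ⟨p - 1, by have := h.pos; omega⟩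
    have h3 : (p - 1) * j' + j' = p * j' := by rw [hq, Nat.add_sub_cancel]; ring
    rw [h3, pow_mul, h.cp, one_pow]
  rw [h1]
  calc u ^ ((p - 1) * j') * (y * c ^ j') * (u ^ ((p - 1) * j'))⁻¹
      = (u ^ ((p - 1) * j') * y) * (c ^ j' * (u ^ ((p - 1) * j'))⁻¹) := by simp only [mul_assoc]
    _ = (y * c ^ ((p - 1) * j') * u ^ ((p - 1) * j')) * ((u ^ ((p - 1) * j'))⁻¹ * c ^ j') := by
        rw [h.u_pow_y, hc.eq]
    _ = y * (c ^ ((p - 1) * j') * c ^ j') := by group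
    _ = y := by rw [e2, mul_one]

theorem conj_u (h : Heis.Dat p y c u) {k i j : ℕ} (hk : k % p ≠ 0) : ∃ (g : G) (m : ℕ),
    (k * m) % p = 1 ∧ g * (u ^ k * y ^ i * c ^ j) ^ m * g⁻¹ = u * y ^ (i * m % p) := by
  obtain ⟨m, hm⟩ := exists_inv_mod h.hp hk
  obtain ⟨j', hj⟩ := h.pow_form k i j m
  have h1 : (u ^ k * y ^ i * c ^ j) ^ m = u * y ^ (i * m % p) * c ^ j' := by
    rw [hj, ← Heis.Dat.pow_mod h.up (k * m), hm, pow_one, Heis.Dat.pow_mod h.yp]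
  refine ⟨y ^ j', m, hm, ?_⟩
  rw [h1]
  generalize i * m % p = r
  have e1 : u * y ^ j' = y ^ j' * c ^ j' * u := by
    have := h.u_pow_y_pow 1 j'
    rwa [pow_one, one_mul] at this
  have hc2 : Commute (c ^ j') (y ^ r) := h.cyi r j'
  have hc3 : Commute (c ^ j') u := (show Commute c u from h.cu).pow_left j'
  have hc1 : Commute (c ^ j') (y ^ j')⁻¹ := (h.cyi _ _).inv_right
  have hyy : Commute (y ^ r) (y ^ j')⁻¹ := ((Commute.refl y).pow_pow r j').inv_right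
  have e2 : y ^ j' * u * c ^ j' = u * y ^ j' := by
    rw [e1, mul_assoc, mul_assoc, hc3.eq]
  calc y ^ j' * (u * y ^ r * c ^ j') * (y ^ j')⁻¹
      = y ^ j' * u * (y ^ r * c ^ j') * (y ^ j')⁻¹ := by simp only [mul_assoc]
    _ = y ^ j' * u * (c ^ j' * y ^ r) * (y ^ j')⁻¹ := by rw [hc2.eq]
    _ = (y ^ j' * u * c ^ j') * (y ^ r * (y ^ j')⁻¹) := by simp only [mul_assoc]
    _ = u * y ^ j' * ((y ^ j')⁻¹ * y ^ r) := by rw [e2, hyy.eq]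
    _ = u * y ^ r := by group

end heis

/-! ### powers of `y7` -/

theorem t6_pow_y7 (e : ℕ) : t6 ^ e * y7 * (t6 ^ e)⁻¹ = y7 ^ (3 ^ e) := by
  induction e with
  | zero => simp
  | succ e ih =>
    calc t6 ^ (e + 1) * y7 * (t6 ^ (e + 1))⁻¹ = t6 * (t6 ^ e * y7 * (t6 ^ e)⁻¹) * t6⁻¹ := by
          rw [pow_succ']; group
      _ = t6 * y7 ^ (3 ^ e) * t6⁻¹ := by rw [ih]
      _ = (t6 * y7 * t6⁻¹) ^ (3 ^ e) := by rw [conj_pow]
      _ = y7 ^ (3 ^ (e + 1)) := by rw [t6_y7, ← pow_mul, pow_succ']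

theorem y7_conj_pow {n : ℕ} (hn : n % 7 ≠ 0) : ∃ g : Fi24, g * y7 * g⁻¹ = y7 ^ n := by
  have key : ∀ e : ℕ, 3 ^ e % 7 = n % 7 → ∃ g : Fi24, g * y7 * g⁻¹ = y7 ^ n := by
    intro e he
    refine ⟨t6 ^ e, ?_⟩
    rw [t6_pow_y7, ← Heis.Dat.pow_mod y7_pow (3 ^ e), he, Heis.Dat.pow_mod y7_pow]
  have h7 : n % 7 < 7 := Nat.mod_lt _ (by norm_num)
  generalize hr : n % 7 = r at *
  interval_cases r
  · exact absurd rfl hn
  · exact key 0 (by norm_num)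
  · exact key 2 (by norm_num)
  · exact key 1 (by norm_num)
  · exact key 4 (by norm_num)
  · exact key 5 (by norm_num)
  · exact key 3 (by norm_num)

theorem y7_pow_eq {n : ℕ} : y7 ^ n = 1 ↔ n % 7 = 0 := by
  rw [← orderOf_dvd_iff_pow_eq_one, y7_order]
  omega

theorem pow7 {v : Fi24} (hv : v ∈ dat.P) {m : ℕ} (hm : ¬ 7 ∣ m) (h : (v ^ m) ^ 7 = 1) : v ^ 7 = 1 := by
  have h1 : orderOf v ∣ 7 ^ 3 := by
    rw [← dat.card_P, ← Subgroup.orderOf_mk v hv]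
    exact orderOf_dvd_natCard _
  have h2 : orderOf v ∣ 7 * m := by
    apply orderOf_dvd_of_pow_eq_one
    rw [mul_comm, pow_mul, h]
  have h3 : Nat.Coprime (orderOf v) m :=
    Nat.Coprime.coprime_dvd_left h1 (Nat.Coprime.pow_left 3 (((Nat.Prime.coprime_iff_not_dvd (by norm_num)).2 hm)))
  exact orderOf_dvd_iff_pow_eq_one.1 (h3.dvd_of_dvd_mul_right h2)

theorem back {v : Fi24} (h7 : v ^ 7 = 1) {m s : ℕ} (hms : (s * m) % 7 = 1) : (v ^ m) ^ s = v := by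
  rw [← pow_mul, mul_comm, ← Heis.Dat.pow_mod h7, hms, pow_one]

/-- from a conjugate of `v ^ m` to `v` -/
theorem cj_of {v : Fi24} (hv : v ∈ dat.P) {m s n : ℕ} (hms : (s * m) % 7 = 1) {g : Fi24} (hn : n % 7 ≠ 0)
    (h : g * v ^ m * g⁻¹ = y7 ^ n) : ∃ g : Fi24, g * y7 * g⁻¹ = v := by
  have hm : ¬ 7 ∣ m := by
    rintro ⟨t, rfl⟩
    rw [mul_left_comm, Nat.mul_mod_right] at hms
    omega
  have hs : ¬ 7 ∣ s := by
    rintro ⟨t, rfl⟩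
    rw [mul_assoc, Nat.mul_mod_right] at hms
    omega
  have h7 : v ^ 7 = 1 := by
    refine pow7 hv hm ?_
    have h1 : g * (v ^ m) ^ 7 * g⁻¹ = 1 := by
      rw [← conj_pow, h, ← pow_mul, y7_pow_eq]
      omega
    have h2 : (v ^ m) ^ 7 = g⁻¹ * (g * (v ^ m) ^ 7 * g⁻¹) * g := by group
    rw [h2, h1]; group
  have hns : n * s % 7 ≠ 0 := by
    intro h0
    rcases (Nat.Prime.dvd_mul (by norm_num : Nat.Prime 7)).1 (Nat.dvd_of_mod_eq_zero h0) with h1 | h1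
    · omega
    · exact hs h1
  obtain ⟨g', hg'⟩ := y7_conj_pow hns
  refine ⟨g⁻¹ * g', ?_⟩
  calc g⁻¹ * g' * y7 * (g⁻¹ * g')⁻¹ = g⁻¹ * (g' * y7 * g'⁻¹) * g := by group
    _ = g⁻¹ * ((g * v ^ m * g⁻¹) ^ s) * g := by rw [hg', h, ← pow_mul]
    _ = (v ^ m) ^ s := by rw [conj_pow]; group
    _ = v := back h7 hms

/-- `c` is not conjugate into `⟨y7⟩` -/
theorem no_q {v : Fi24} {g : Fi24} (hv : g * y7 * g⁻¹ = v) {m : ℕ} {X : Fi24} {q : Fi24} (hq : X * v ^ m * X⁻¹ = q) {e : ℕ}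
    (hc : q ^ e = c) : False := by
  refine not_conj_y7 (g := (X * g)⁻¹) ?_
  have h1 : (X * g)⁻¹ * c * (X * g)⁻¹⁻¹ = y7 ^ (m * e) := by
    rw [← hc, ← hq, ← hv]
    have e0 : (g * y7 * g⁻¹) ^ m = g * y7 ^ m * g⁻¹ := conj_pow
    calc (X * g)⁻¹ * (X * (g * y7 * g⁻¹) ^ m * X⁻¹) ^ e * (X * g)⁻¹⁻¹
        = (X * g)⁻¹ * (X * (g * y7 ^ m * g⁻¹) * X⁻¹) ^ e * (X * g)⁻¹⁻¹ := by rw [e0]
      _ = (X * g)⁻¹ * ((X * g) * y7 ^ m * (X * g)⁻¹) ^ e * (X * g)⁻¹⁻¹ := by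
          congr 3
          group
      _ = (X * g)⁻¹ * ((X * g) * (y7 ^ m) ^ e * (X * g)⁻¹) * (X * g)⁻¹⁻¹ := by rw [conj_pow]
      _ = (y7 ^ m) ^ e := by group
      _ = y7 ^ (m * e) := by rw [pow_mul]
  rw [h1]
  exact pow_mem (mem_zpowers y7) _

theorem c_back {s : ℕ} (hs : s % 7 ≠ 0) : ∃ e : ℕ, (c ^ s) ^ e = c := by
  obtain ⟨m, hm⟩ := exists_inv_mod (by norm_num : Nat.Prime 7) hs
  exact ⟨m, by rw [← pow_mul, ← Heis.Dat.pow_mod c_pow, hm, pow_one]⟩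

theorem c_inv : c⁻¹ = c ^ 6 := by
  rw [inv_eq_iff_mul_eq_one, ← pow_succ']
  exact c_pow

theorem uy_conj {r : ℕ} (hr : r % 7 ≠ 0) (hr7 : r < 7) : ∃ (g : Fi24) (s : ℕ), s % 7 ≠ 0 ∧ g * c ^ s * g⁻¹ = u * y7 ^ r := by
  interval_cases r
  · exact absurd rfl hr
  · exact ⟨word SevenK.g1, 6, by norm_num, by rw [← c_inv]; exact conj1⟩
  · exact ⟨word SevenK.g2, 1, by norm_num, by rw [pow_one]; exact conj2⟩
  · exact ⟨word SevenK.g3, 6, by norm_num, by rw [← c_inv]; exact conj3⟩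
  · exact ⟨word SevenK.g4, 6 * 3, by norm_num, by rw [pow_mul, ← c_inv]; exact conj4⟩
  · exact ⟨word SevenK.g5, 6 * 2, by norm_num, by rw [pow_mul, ← c_inv]; exact conj5⟩
  · exact ⟨word SevenK.g6, 2, by norm_num, conj6⟩

theorem cj_iff (k i j : ℕ) : (∃ g : Fi24, g * y7 * g⁻¹ = u ^ k * y7 ^ i * c ^ j) ↔
    ((k % 7 = 0 ∧ i % 7 ≠ 0) ∨ (k % 7 ≠ 0 ∧ i % 7 = 0)) := by
  have hP : u ^ k * y7 ^ i * c ^ j ∈ dat.P := ⟨k, i, j, rfl⟩
  constructor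
  · rintro ⟨g, hg⟩
    by_cases hk : k % 7 = 0
    · by_cases hi : i % 7 = 0
      · exfalso
        have e1 : u ^ k * y7 ^ i * c ^ j = c ^ j := by
          rw [← Heis.Dat.pow_mod u_pow, hk, ← Heis.Dat.pow_mod y7_pow, hi]
          simp
        rw [e1] at hg
        by_cases hj : j % 7 = 0
        · rw [← Heis.Dat.pow_mod c_pow, hj, pow_zero, mul_inv_eq_one, mul_eq_left] at hg
          exact y7_ne hg
        · obtain ⟨e, he⟩ := c_back hj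
          exact no_q hg (m := 1) (X := 1) (q := c ^ j) (by simp) he
      · exact Or.inl ⟨hk, hi⟩
    · by_cases hi : i % 7 = 0
      · exact Or.inr ⟨hk, hi⟩
      · exfalso
        obtain ⟨g1, m, hm, h1⟩ := conj_u dat (i := i) (j := j) hk
        have hr : i * m % 7 % 7 ≠ 0 := by
          rw [Nat.mod_mod]
          intro h0
          rcases (Nat.Prime.dvd_mul (by norm_num : Nat.Prime 7)).1 (Nat.dvd_of_mod_eq_zero h0) with h2 | h2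
          · omega
          · obtain ⟨t, rfl⟩ := h2
            rw [mul_left_comm, Nat.mul_mod_right] at hm
            omega
        obtain ⟨g2, s, hs, h2⟩ := uy_conj hr (Nat.mod_lt _ (by norm_num))
        obtain ⟨e, he⟩ := c_back hs
        refine no_q hg (m := m) (X := g2⁻¹ * g1) (q := c ^ s) ?_ he
        calc g2⁻¹ * g1 * (u ^ k * y7 ^ i * c ^ j) ^ m * (g2⁻¹ * g1)⁻¹
            = g2⁻¹ * (g1 * (u ^ k * y7 ^ i * c ^ j) ^ m * g1⁻¹) * g2 := by group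
          _ = g2⁻¹ * (g2 * c ^ s * g2⁻¹) * g2 := by rw [h1, h2]
          _ = c ^ s := by group
  · rintro (⟨hk, hi⟩ | ⟨hk, hi⟩)
    · obtain ⟨g, m, hm, h1⟩ := conj_y dat (j := j) hk hi
      exact cj_of hP hm (n := 1) (by norm_num) (by rw [pow_one]; exact h1)
    · obtain ⟨g, m, hm, h1⟩ := conj_u dat (i := i) (j := j) hk
      have h0 : i * m % 7 = 0 := by rw [Nat.mul_mod, hi, zero_mul, Nat.zero_mod]
      rw [h0, pow_zero, mul_one] at h1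
      refine cj_of hP hm (n := 3) (g := (word SevenK.g0)⁻¹ * g) (by norm_num) ?_
      calc (word SevenK.g0)⁻¹ * g * (u ^ k * y7 ^ i * c ^ j) ^ m * ((word SevenK.g0)⁻¹ * g)⁻¹
          = (word SevenK.g0)⁻¹ * (g * (u ^ k * y7 ^ i * c ^ j) ^ m * g⁻¹) * word SevenK.g0 := by group
        _ = (word SevenK.g0)⁻¹ * (word SevenK.g0 * y7 ^ 3 * (word SevenK.g0)⁻¹) * word SevenK.g0 := by rw [h1, conj0]
        _ = y7 ^ 3 := by group

/-- **84 elements of class 7A in the Sylow subgroup.** -/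
theorem nA_fi (hy : ∀ v : Fi24', (∃ g : Fi24, g * y7 * g⁻¹ = (v : Fi24)) → IsConj yy v) :
    H266.M13.nA yy datF.P = 84 := by
  have hc : ∀ v : Fi24', IsConj yy v ↔ ∃ g : Fi24, g * y7 * g⁻¹ = (v : Fi24) := by
    intro v
    refine ⟨fun h => ?_, hy v⟩
    obtain ⟨g, hg⟩ := isConj_iff.1 h
    exact ⟨g, congrArg Subtype.val hg⟩
  have hv : ∀ k i j : ℕ, ((uu ^ k * yy ^ i * cc ^ j : Fi24') : Fi24) = u ^ k * y7 ^ i * c ^ j := fun k i j => rfl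
  let f : {x : Fin 7 × Fin 7 × Fin 7 // (x.1 = 0 ∧ x.2.1 ≠ 0) ∨ (x.1 ≠ 0 ∧ x.2.1 = 0)} →
      {v : Fi24' // IsConj yy v ∧ v ∈ datF.P} := fun x =>
    ⟨uu ^ (x.1.1 : ℕ) * yy ^ (x.1.2.1 : ℕ) * cc ^ (x.1.2.2 : ℕ), by
      rw [hc, hv, cj_iff]
      obtain ⟨⟨k, i, j⟩, h⟩ := x
      simp only [Nat.mod_eq_of_lt k.2, Nat.mod_eq_of_lt i.2, ne_eq, Fin.val_eq_zero_iff]
      exact h, _, _, _, rfl⟩
  have hf : Function.Bijective f := by
    constructor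
    · rintro ⟨⟨a, b, d⟩, _⟩ ⟨⟨a', b', d'⟩, _⟩ hab
      obtain ⟨h1, h2, h3⟩ := datF.form_inj (congrArg Subtype.val hab)
      simp only at h1 h2 h3
      rw [Nat.mod_eq_of_lt a.2, Nat.mod_eq_of_lt a'.2] at h1
      rw [Nat.mod_eq_of_lt b.2, Nat.mod_eq_of_lt b'.2] at h2
      rw [Nat.mod_eq_of_lt d.2, Nat.mod_eq_of_lt d'.2] at h3
      apply Subtype.ext
      simp only [Prod.mk.injEq]
      exact ⟨Fin.ext h1, Fin.ext h2, Fin.ext h3⟩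
    · rintro ⟨_, h1, k, i, j, rfl⟩
      rw [hc, hv, cj_iff] at h1
      have h7 : (0 : ℕ) < 7 := by norm_num
      refine ⟨⟨⟨⟨k % 7, Nat.mod_lt _ h7⟩, ⟨i % 7, Nat.mod_lt _ h7⟩, ⟨j % 7, Nat.mod_lt _ h7⟩⟩, ?_⟩, Subtype.ext ?_⟩
      · simpa only [ne_eq, Fin.ext_iff, Fin.val_zero] using h1
      · show uu ^ (k % 7) * yy ^ (i % 7) * cc ^ (j % 7) = _
        rw [Heis.Dat.pow_mod datF.up, Heis.Dat.pow_mod datF.yp, Heis.Dat.pow_mod datF.cp]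
  rw [H266.M13.nA, ← Nat.card_eq_of_bijective f hf, Nat.card_eq_fintype_card]
  decide +kernel

end Cfsg.Agent.H702.E4.Fi
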