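import Cfsg.Agent.H542.Frobenius

/-!
# Frobenius for the `p`-elements (helper702, for helper713)
-/

set_option autoImplicit false

namespace Cfsg.Agent.H702.E4

universe u

theorem frob {G : Type u} [Group G] [Finite G] {p : ℕ} (hp : p.Prime) :
    p ^ (Nat.card G).factorization p ∣ Nat.card {x : G // ∃ k : ℕ, x ^ p ^ k = 1} := by
  have h1 : Nat.card {x : G // ∃ k : ℕ, x ^ p ^ k = 1} = Nat.card {x : G // x ^ (p ^ (Nat.card G).factorization p) = 1} := by
    refine Nat.card_congr (Equiv.subtypeEquivRight fun x => ⟨?_, fun h => ⟨_, h⟩⟩)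
    rintro ⟨k, hk⟩
    obtain ⟨j, -, hj⟩ := (Nat.dvd_prime_pow hp).1 (orderOf_dvd_of_pow_eq_one hk)
    rw [← orderOf_dvd_iff_pow_eq_one, hj]
    refine pow_dvd_pow p ((hp.pow_dvd_iff_le_factorization Nat.card_pos.ne').1 ?_)
    rw [← hj]
    exact orderOf_dvd_natCard x
  rw [h1]
  exact H542.Frobenius.frobenius_dvd (Nat.ordProj_dvd _ _)

end Cfsg.Agent.H702.E4
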